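import Groth.Agent.QDMCover.UnivIso

/-!
# The groupoid scheme of a chart
-/

set_option autoImplicit false
set_option linter.style.haveILetI false
set_option backward.isDefEq.respectTransparency false
set_option backward.isDefEq.respectTransparency.types false

universe u

open CategoryTheory CategoryTheory.Functor CategoryTheory.Limits AlgebraicGeometry
open Groth.Agent.FibBase

namespace Groth.Agent.QDMCover

variable {S : Scheme.{u}} {𝒳 : AlgSt.Cat S} {U : Over S} {x : FibCat.overCat U ⥤ᵇ 𝒳}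
  {R : Over S} {s t : R ⟶ U} {ε : BasedFunctor.comp (mapB s) x ≅ BasedFunctor.comp (mapB t) x}
  (hE : FibCat.IsEquivOver (FibCat.fpLift (mapB s) (mapB t) ε)) (h𝒳 : FibCat.IsFibGrpd 𝒳.p)

theorem id_lift {T : Over S} (a : T ⟶ U) : 𝒳.p.IsHomLift (𝟙 T) (𝟙 (at' x a)) := IsHomLift.id (p_at x a)

include hE h𝒳

/-- Composition with prescribed values. -/
theorem exists_comp' : ∃ c : pullback s.left t.left ⟶ R.left, ∀ {T : Over S} (α β : T ⟶ R) (a m b : T ⟶ U)
    (h₁ : β ≫ s = a) (h₂ : β ≫ t = m) (h₃ : α ≫ s = m) (h₄ : α ≫ t = b),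
      ∃ p : T ⟶ R, p.left = pullback.lift α.left β.left (congrArg CommaMorphism.left (h₃.trans h₂.symm)) ≫ c ∧
        ∃ (ha : p ≫ s = a) (hb : p ≫ t = b),
          val x s t ε p a b ha hb = val x s t ε β a m h₁ h₂ ≫ val x s t ε α m b h₃ h₄ := by
  obtain ⟨c, hc⟩ := exists_comp x s t ε hE h𝒳
  refine ⟨c, fun {T} α β a m b h₁ h₂ h₃ h₄ => ?_⟩
  subst h₁ h₃ h₄
  exact hc α β h₂.symm

/-- The unit. -/
theorem exists_unit : ∃ (e : U ⟶ R) (hs : e ≫ s = 𝟙 U) (ht : e ≫ t = 𝟙 U), ∀ {T : Over S} (a : T ⟶ U),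
    val x s t ε (a ≫ e) a a ((Category.assoc _ _ _).trans ((congrArg (a ≫ ·) hs).trans (Category.comp_id a)))
      ((Category.assoc _ _ _).trans ((congrArg (a ≫ ·) ht).trans (Category.comp_id a))) = 𝟙 _ := by
  obtain ⟨e, hs, ht, he⟩ := exists_val x s t ε hE (𝟙 U) (𝟙 U) (Iso.refl _) (id_lift _)
  refine ⟨e, hs, ht, fun {T} a => ?_⟩
  refine eq_of_comp_pull x h𝒳 a (b := 𝟙 U) (Category.comp_id a) _ _ (val_lift x s t ε _ _ _ _ _) (id_lift a) ?_
  rw [val_natural x s t ε a e (𝟙 U) (𝟙 U) hs ht (a ≫ e) a a _ _ rfl (Category.comp_id a) (Category.comp_id a), he]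
  exact (Category.comp_id _).trans (Category.id_comp _).symm

/-- The inverse. -/
theorem exists_inv : ∃ (i : R ⟶ R) (his : i ≫ s = t) (hit : i ≫ t = s), ∀ {T : Over S} (α : T ⟶ R) (a b : T ⟶ U)
    (ha : α ≫ s = a) (hb : α ≫ t = b),
      val x s t ε α a b ha hb ≫ val x s t ε (α ≫ i) b a ((Category.assoc _ _ _).trans ((congrArg (α ≫ ·) his).trans hb))
          ((Category.assoc _ _ _).trans ((congrArg (α ≫ ·) hit).trans ha)) = 𝟙 _ ∧
      val x s t ε (α ≫ i) b a ((Category.assoc _ _ _).trans ((congrArg (α ≫ ·) his).trans hb))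
          ((Category.assoc _ _ _).trans ((congrArg (α ≫ ·) hit).trans ha)) ≫ val x s t ε α a b ha hb = 𝟙 _ := by
  haveI := h𝒳
  let φ := val x s t ε (𝟙 R) s t (Category.id_comp _) (Category.id_comp _)
  haveI hφ : 𝒳.p.IsHomLift (𝟙 R) φ := val_lift x s t ε _ _ _ _ _
  haveI := isIso_of_lift (p := 𝒳.p) (hp := h𝒳) (𝟙 R) φ
  haveI : 𝒳.p.IsHomLift (𝟙 R) (asIso φ).hom := hφ
  obtain ⟨i, his, hit, hi⟩ := exists_val x s t ε hE t s (asIso φ).symm (IsHomLift.lift_id_inv 𝒳.p R (asIso φ))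
  refine ⟨i, his, hit, fun {T} α a b ha hb => ?_⟩
  let v := val x s t ε α a b ha hb
  let w := val x s t ε (α ≫ i) b a ((Category.assoc _ _ _).trans ((congrArg (α ≫ ·) his).trans hb))
    ((Category.assoc _ _ _).trans ((congrArg (α ≫ ·) hit).trans ha))
  haveI : 𝒳.p.IsHomLift (𝟙 T) v := val_lift x s t ε _ _ _ _ _
  haveI : 𝒳.p.IsHomLift (𝟙 T) w := val_lift x s t ε _ _ _ _ _
  have n₁ : v ≫ pull x α hb = pull x α ha ≫ φ :=
    val_natural x s t ε α (𝟙 R) s t _ _ α a b ha hb (Category.comp_id α) ha hb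
  have n₂ : w ≫ pull x α ha = pull x α hb ≫ inv φ := by
    rw [← show val x s t ε i t s his hit = inv φ from hi]
    exact val_natural x s t ε α i t s his hit (α ≫ i) b a _ _ rfl hb ha
  have l₁ : 𝒳.p.IsHomLift (𝟙 T) (v ≫ w) := inferInstance
  have l₂ : 𝒳.p.IsHomLift (𝟙 T) (w ≫ v) := inferInstance
  constructor
  · refine eq_of_comp_pull x h𝒳 α (b := s) ha _ _ l₁ (id_lift a) ?_
    rw [Category.assoc, n₂, ← Category.assoc, n₁, Category.assoc, IsIso.hom_inv_id, Category.comp_id,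
      Category.id_comp]
  · refine eq_of_comp_pull x h𝒳 α (b := t) hb _ _ l₂ (id_lift b) ?_
    rw [Category.assoc, n₁, ← Category.assoc, n₂, Category.assoc, IsIso.inv_hom_id, Category.comp_id,
      Category.id_comp]

omit hE h𝒳 in
theorem lift_congr_fst {T : Scheme.{u}} {a a' : T ⟶ R.left} (e : a = a') (b : T ⟶ R.left)
    (w : a ≫ s.left = b ≫ t.left) (w' : a' ≫ s.left = b ≫ t.left) :
    pullback.lift a b w = pullback.lift a' b w' := by
  subst e; rfl

omit hE h𝒳 in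
theorem lift_congr_snd {T : Scheme.{u}} (a : T ⟶ R.left) {b b' : T ⟶ R.left} (e : b = b')
    (w : a ≫ s.left = b ≫ t.left) (w' : a ≫ s.left = b' ≫ t.left) :
    pullback.lift a b w = pullback.lift a b' w' := by
  subst e; rfl

omit hE h𝒳 in
theorem w_over {T : Scheme.{u}} {α β : T ⟶ R.left} (h : α ≫ s.left = β ≫ t.left) : β ≫ R.hom = α ≫ R.hom := by
  rw [← Over.w t, ← reassoc_of% h]
  exact congrArg (α ≫ ·) ((Over.w s).trans (Over.w t).symm)

/-- Arrows of a chart with representable self product form a groupoid scheme. -/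
noncomputable def groupoid : Grpd.GroupoidScheme S where
  U := U.left
  R := R.left
  pU := U.hom
  pR := R.hom
  s := s.left
  t := t.left
  e := (exists_unit hE h𝒳).choose.left
  i := (exists_inv hE h𝒳).choose.left
  c := (exists_comp' hE h𝒳).choose
  s_over := Over.w s
  t_over := Over.w t
  comp_s := fun {T} α β h => by
    let T' : Over S := Over.mk (α ≫ R.hom)
    let α' : T' ⟶ R := Over.homMk α
    let β' : T' ⟶ R := Over.homMk β (w_over h)
    have h' : α' ≫ s = β' ≫ t := Over.OverMorphism.ext h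
    obtain ⟨p, hp, ha, -, -⟩ := (exists_comp' hE h𝒳).choose_spec α' β' _ _ _ rfl rfl h' rfl
    have := congrArg CommaMorphism.left ha
    simp only [Over.comp_left, hp] at this
    exact this
  comp_t := fun {T} α β h => by
    let T' : Over S := Over.mk (α ≫ R.hom)
    let α' : T' ⟶ R := Over.homMk α
    let β' : T' ⟶ R := Over.homMk β (w_over h)
    have h' : α' ≫ s = β' ≫ t := Over.OverMorphism.ext h
    obtain ⟨p, hp, -, hb, -⟩ := (exists_comp' hE h𝒳).choose_spec α' β' _ _ _ rfl rfl h' rfl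
    have := congrArg CommaMorphism.left hb
    simp only [Over.comp_left, hp] at this
    exact this
  assoc := fun {T} α β γ h₁ h₂ => by
    let T' : Over S := Over.mk (α ≫ R.hom)
    let α' : T' ⟶ R := Over.homMk α
    let β' : T' ⟶ R := Over.homMk β (w_over h₁)
    let γ' : T' ⟶ R := Over.homMk γ ((w_over h₂).trans (w_over h₁))
    have h₁' : α' ≫ s = β' ≫ t := Over.OverMorphism.ext h₁
    have h₂' : β' ≫ s = γ' ≫ t := Over.OverMorphism.ext h₂
    obtain ⟨m, hm, hma, hmb, hmv⟩ := (exists_comp' hE h𝒳).choose_spec α' β' (β' ≫ s) (β' ≫ t) (α' ≫ t) rfl rfl h₁' rfl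
    obtain ⟨n, hn, hna, hnb, hnv⟩ := (exists_comp' hE h𝒳).choose_spec β' γ' (γ' ≫ s) (β' ≫ s) (β' ≫ t) rfl h₂'.symm rfl rfl
    obtain ⟨p, hp, hpa, hpb, hpv⟩ := (exists_comp' hE h𝒳).choose_spec m γ' (γ' ≫ s) (β' ≫ s) (α' ≫ t) rfl h₂'.symm hma hmb
    obtain ⟨q, hq, hqa, hqb, hqv⟩ := (exists_comp' hE h𝒳).choose_spec α' n (γ' ≫ s) (β' ≫ t) (α' ≫ t) hna hnb h₁' rfl
    have he : p = q := val_ext x s t ε hE hpa hpb hqa hqb (by rw [hpv, hmv, hqv, hnv, Category.assoc])
    refine Eq.trans ?_ ((congrArg CommaMorphism.left he).trans ?_)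
    · exact Eq.trans (congrArg (· ≫ _) (lift_congr_fst hm.symm γ _ _)) hp.symm
    · exact hq.trans (congrArg (· ≫ _) (lift_congr_snd α hn _ _))
  e_s := congrArg CommaMorphism.left (exists_unit hE h𝒳).choose_spec.choose
  e_t := congrArg CommaMorphism.left (exists_unit hE h𝒳).choose_spec.choose_spec.choose
  comp_e := fun {T} α => by
    let T' : Over S := Over.mk (α ≫ R.hom)
    let α' : T' ⟶ R := Over.homMk α
    obtain ⟨he₁, he₂, he⟩ := (exists_unit hE h𝒳).choose_spec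
    let β' : T' ⟶ R := (α' ≫ s) ≫ (exists_unit hE h𝒳).choose
    have hs : β' ≫ s = α' ≫ s := by simp [β', he₁]
    have ht : β' ≫ t = α' ≫ s := by simp [β', he₂]
    obtain ⟨p, hp, hpa, hpb, hpv⟩ := (exists_comp' hE h𝒳).choose_spec α' β' (α' ≫ s) (α' ≫ s) (α' ≫ t) hs ht rfl rfl
    have hp' : p = α' := val_ext x s t ε hE hpa hpb rfl rfl
      (hpv.trans ((congrArg (· ≫ _) (he (α' ≫ s))).trans (Category.id_comp _)))
    refine Eq.trans ?_ (hp.symm.trans (congrArg CommaMorphism.left hp'))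
    refine congrArg (· ≫ _) (lift_congr_snd α ?_ _ _)
    simp [β', α']
  e_comp := fun {T} α => by
    let T' : Over S := Over.mk (α ≫ R.hom)
    let α' : T' ⟶ R := Over.homMk α
    obtain ⟨he₁, he₂, he⟩ := (exists_unit hE h𝒳).choose_spec
    let β' : T' ⟶ R := (α' ≫ t) ≫ (exists_unit hE h𝒳).choose
    have hs : β' ≫ s = α' ≫ t := by simp [β', he₁]
    have ht : β' ≫ t = α' ≫ t := by simp [β', he₂]
    obtain ⟨p, hp, hpa, hpb, hpv⟩ := (exists_comp' hE h𝒳).choose_spec β' α' (α' ≫ s) (α' ≫ t) (α' ≫ t) rfl rfl hs ht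
    have hp' : p = α' := val_ext x s t ε hE hpa hpb rfl rfl
      (hpv.trans ((congrArg (_ ≫ ·) (he (α' ≫ t))).trans (Category.comp_id _)))
    refine Eq.trans ?_ (hp.symm.trans (congrArg CommaMorphism.left hp'))
    refine congrArg (· ≫ _) (lift_congr_fst ?_ α _ _)
    simp [β', α']
  i_s := congrArg CommaMorphism.left (exists_inv hE h𝒳).choose_spec.choose
  i_t := congrArg CommaMorphism.left (exists_inv hE h𝒳).choose_spec.choose_spec.choose
  comp_i := fun {T} α => by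
    let T' : Over S := Over.mk (α ≫ R.hom)
    let α' : T' ⟶ R := Over.homMk α
    obtain ⟨hi₁, hi₂, hi⟩ := (exists_inv hE h𝒳).choose_spec
    obtain ⟨he₁, he₂, he⟩ := (exists_unit hE h𝒳).choose_spec
    let β' : T' ⟶ R := α' ≫ (exists_inv hE h𝒳).choose
    have hs : β' ≫ s = α' ≫ t := by simp [β', hi₁]
    have ht : β' ≫ t = α' ≫ s := by simp [β', hi₂]
    obtain ⟨p, hp, hpa, hpb, hpv⟩ := (exists_comp' hE h𝒳).choose_spec α' β' (α' ≫ t) (α' ≫ s) (α' ≫ t) hs ht rfl rfl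
    have hp' : p = (α' ≫ t) ≫ (exists_unit hE h𝒳).choose := val_ext x s t ε hE hpa hpb
      (by simp [he₁]) (by simp [he₂])
      (hpv.trans ((hi α' (α' ≫ s) (α' ≫ t) rfl rfl).2.trans (he (α' ≫ t)).symm))
    refine Eq.trans ?_ ((hp.symm.trans (congrArg CommaMorphism.left hp')).trans (by simp [α']))
    rfl
  i_comp := fun {T} α => by
    let T' : Over S := Over.mk (α ≫ R.hom)
    let α' : T' ⟶ R := Over.homMk α
    obtain ⟨hi₁, hi₂, hi⟩ := (exists_inv hE h𝒳).choose_spec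
    obtain ⟨he₁, he₂, he⟩ := (exists_unit hE h𝒳).choose_spec
    let β' : T' ⟶ R := α' ≫ (exists_inv hE h𝒳).choose
    have hs : β' ≫ s = α' ≫ t := by simp [β', hi₁]
    have ht : β' ≫ t = α' ≫ s := by simp [β', hi₂]
    obtain ⟨p, hp, hpa, hpb, hpv⟩ := (exists_comp' hE h𝒳).choose_spec β' α' (α' ≫ s) (α' ≫ t) (α' ≫ s) rfl rfl hs ht
    have hp' : p = (α' ≫ s) ≫ (exists_unit hE h𝒳).choose := val_ext x s t ε hE hpa hpb
      (by simp [he₁]) (by simp [he₂])
      (hpv.trans ((hi α' (α' ≫ s) (α' ≫ t) rfl rfl).1.trans (he (α' ≫ s)).symm))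
    refine Eq.trans ?_ ((hp.symm.trans (congrArg CommaMorphism.left hp')).trans (by simp [α']))
    rfl

end Groth.Agent.QDMCover
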