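import Groth.Prelude.Def_Grpd
import Groth.Agent.CMOpen5.Open
import Groth.Agent.Triage.CMMor
import Groth.Agent.AlgStLib.RepDiag

/-!
# Smooth morphisms are Cohen-Macaulay
-/

set_option autoImplicit false
set_option linter.style.haveILetI false
set_option backward.isDefEq.respectTransparency false

universe u

open AlgebraicGeometry CategoryTheory CategoryTheory.Limits

namespace Groth.Agent.QDMCover

open Groth.Agent.CMOpen5

/-- A smooth morphism is Cohen-Macaulay at every point. -/
theorem isCMAt_of_smooth {X Y : Scheme.{u}} (f : X ⟶ Y) [Smooth f] (x : X) : MoreMor.IsCMAt f x := by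
  obtain ⟨U, hU, V, hV, hxV, e, hss⟩ := Smooth.exists_isStandardSmooth f x
  obtain ⟨n, g, hg, het⟩ := RingHom.IsStandardSmooth.exists_etale_mvPolynomial hss
  have hsq : hV.fromSpec ≫ f = Spec.map (f.appLE U V e) ≫ hU.fromSpec :=
    (hU.SpecMap_appLE_fromSpec f hV e).symm
  obtain ⟨q, rfl⟩ : x ∈ Set.range hV.fromSpec := by rw [hV.range_fromSpec]; exact hxV
  rw [isCMAt_chart f _ _ _ hsq q]
  let π := Spec.map (CommRingCat.ofHom (algebraMap Γ(Y, U) (MvPolynomial (Fin n) Γ(Y, U))))
  let γ := Spec.map (CommRingCat.ofHom g)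
  haveI : Etale γ := HasRingHomProperty.Spec_iff.2 het
  have hcomp : Spec.map (f.appLE U V e) = γ ≫ π := by
    rw [← Spec.map_comp]
    exact congrArg Spec.map (CommRingCat.hom_ext hg.symm)
  haveI : LocallyOfFinitePresentation π :=
    HasRingHomProperty.Spec_iff.2 (RingHom.finitePresentation_algebraMap.2 inferInstance)
  rw [hcomp]
  refine S9766.result γ π q ?_ ?_ (isCMAt_poly _ n _)
  · exact LocallyOfFiniteType.isLocallyNoetherian ((γ ≫ π).fiberToSpecResidueField _)
  · haveI : LocallyQuasiFinite γ := AlgStLib.locallyQuasiFinite_of_unr γ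
    exact isCMAt_of_quasiFiniteAt γ q (Flat.stalkMap γ q) (γ.quasiFiniteAt q)

/-- A smooth morphism is Cohen-Macaulay at every point, in the form of groupoid schemes. -/
theorem grpd_isCMAt_of_smooth {X Y : Scheme.{u}} (f : X ⟶ Y) [Smooth f] (x : X) : Grpd.IsCMAt f x :=
  (Triage.CMMor.isCMAt_iff f x).1 (isCMAt_of_smooth f x)

end Groth.Agent.QDMCover
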