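import Groth.Agent.QDMCover.Groupoid
import Groth.Agent.QDMCover.SmoothCM
import Groth.Agent.AlgStLib.Diag
import Groth.Agent.AlgStLib.LocQ
import Groth.Agent.AlgStLib.SpaceCalc
import Groth.Prelude.Def_AlgSt3
import Groth.Agent.AlgStLib.SepUnivClosed
import Groth.Agent.S10260

/-!
# A presentation of a quasi-DM stack with separated quasi-compact diagonal
-/

set_option autoImplicit false
set_option linter.style.haveILetI false
set_option backward.isDefEq.respectTransparency false
set_option backward.isDefEq.respectTransparency.types false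

universe u

open CategoryTheory CategoryTheory.Functor CategoryTheory.Limits AlgebraicGeometry Opposite AlgSp
open Groth.Agent.FibBase Groth.Agent.AlgStLib

namespace Groth.Agent.QDMCover

variable {S : Scheme.{u}} {𝒳 : AlgSt.Cat S}

/-- Vertical morphisms of the base with equal ends are equal. -/
theorem self_hom_subsingleton {a b : Over S} {T : Over S} {φ ψ : a ⟶ b} (h : (𝟭 (Over S)).IsHomLift (𝟙 T) φ)
    (h' : (𝟭 (Over S)).IsHomLift (𝟙 T) ψ) : φ = ψ := (self_hom_eq h).trans (self_hom_eq h').symm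

/-- Functors into a fibre product over the base are isomorphic when their components are. -/
def fpSelfIso {𝒜 ℬ 𝒲 : AlgSt.Cat S} {F : 𝒜 ⥤ᵇ FibCat.selfOver (Over S)} {G : ℬ ⥤ᵇ FibCat.selfOver (Over S)}
    {A B : 𝒲 ⥤ᵇ FibCat.fp F G} (i₁ : BasedFunctor.comp A (FibCat.fpFst F G) ≅ BasedFunctor.comp B (FibCat.fpFst F G))
    (i₂ : BasedFunctor.comp A (FibCat.fpSnd F G) ≅ BasedFunctor.comp B (FibCat.fpSnd F G)) : A ≅ B :=
  BasedNatIso.mkNatIso
    (NatIso.ofComponents
      (fun w => fpIsoMk (x := A.obj w) (y := B.obj w) (isoApp i₁ w) (isoApp i₂ w) (by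
        have hA : (FibCat.selfOver (Over S)).p.IsHomLift (𝟙 (𝒲.p.obj w)) (A.obj w).obj.iso.hom :=
          isHomLift_id_congr (A.w_obj w) (fp_iso_lift (A.obj w))
        have hB : (FibCat.selfOver (Over S)).p.IsHomLift (𝟙 (𝒲.p.obj w)) (B.obj w).obj.iso.hom :=
          isHomLift_id_congr (B.w_obj w) (fp_iso_lift (B.obj w))
        haveI := isoApp_lift i₁ (rfl : 𝒲.p.obj w = 𝒲.p.obj w)
        haveI := isoApp_lift i₂ (rfl : 𝒲.p.obj w = 𝒲.p.obj w)
        exact self_hom_subsingleton (T := 𝒲.p.obj w)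
          (inferInstanceAs ((FibCat.selfOver (Over S)).p.IsHomLift (𝟙 (𝒲.p.obj w))
            (F.map (isoApp i₁ w).hom ≫ (B.obj w).obj.iso.hom)))
          (inferInstanceAs ((FibCat.selfOver (Over S)).p.IsHomLift (𝟙 (𝒲.p.obj w))
            ((A.obj w).obj.iso.hom ≫ G.map (isoApp i₂ w).hom)))))
      (fun {w w'} φ => ObjectProperty.hom_ext _ (CategoricalPullback.hom_ext (natural i₁ φ) (natural i₂ φ))))
    (fun w => fp_isHomLift (F := F) (G := G) (𝟙 (𝒲.p.obj w)) _ (h := isoApp_lift i₁ rfl))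

theorem fpSnd_isEquivOver {𝒜 ℬ 𝒞 : AlgSt.Cat S} {E : 𝒜 ⥤ᵇ 𝒞} (hE : FibCat.IsEquivOver E) (g : ℬ ⥤ᵇ 𝒞) :
    FibCat.IsEquivOver (FibCat.fpSnd E g) := by
  let m := fpMap (F := BasedFunctor.id 𝒞) (G := g) (F' := E) (G' := g) (a := E) (b := BasedFunctor.id _)
    (c := BasedFunctor.id _) (Iso.refl _) (Iso.refl _)
  have hm : FibCat.IsEquivOver m := fpMap_isEquivOver _ _ hE isEquivOver_id
  have h : FibCat.IsEquivOver (FibCat.fpSnd (BasedFunctor.id 𝒞) g) :=
    isEquivOver_of_iso (Iso.refl (BasedFunctor.comp (fpSwap (BasedFunctor.id 𝒞) g) (FibCat.fpFst g (BasedFunctor.id 𝒞))))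
      (isEquivOver_comp (fpSwap_isEquivOver _ _) (fpFst_id_isEquivOver g))
  exact isEquivOver_of_iso (Iso.refl (BasedFunctor.comp m (FibCat.fpSnd (BasedFunctor.id 𝒞) g)))
    (isEquivOver_comp hm h)

/-- The self product of a scheme over the base. -/
noncomputable abbrev prod₂ (U : Over S) : Over S := Over.mk (pullback.fst U.hom U.hom ≫ U.hom)

noncomputable abbrev pr₁ (U : Over S) : prod₂ U ⟶ U := Over.homMk (pullback.fst U.hom U.hom)

noncomputable abbrev pr₂ (U : Over S) : prod₂ U ⟶ U := Over.homMk (pullback.snd U.hom U.hom) pullback.condition.symm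

variable {U : Over S} (x : FibCat.overCat U ⥤ᵇ 𝒳)

/-- Pairs of points of a chart, as a fibre product over the base. -/
noncomputable def pairEquiv : FibCat.overCat (prod₂ U) ⥤ᵇ
    FibCat.fp (BasedFunctor.comp x (FibCat.toSelf 𝒳)) (BasedFunctor.comp x (FibCat.toSelf 𝒳)) :=
  FibCat.fpLift (mapB (pr₁ U)) (mapB (pr₂ U)) (selfIso _ _)

theorem pairEquiv_isEquivOver : FibCat.IsEquivOver (pairEquiv x) := by
  let F := BasedFunctor.comp x (FibCat.toSelf 𝒳)
  refine isEquivOver_of_exists_iso _ ⟨fun {a b} t => ?_⟩ ⟨fun {a b} t t' h => ?_⟩ fun η => ?_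
  · have e : t.hom.snd.left = t.hom.fst.left := by
      have h := CategoryTheory.IsHomLift.fac' (FibCat.overCat U : AlgSt.Cat S).p
        ((FibCat.fp F F).p.map t) t.hom.snd
      exact h.trans (by simp; rfl)
    have w₁ : t.hom.fst.left ≫ b.hom ≫ pr₁ U = a.hom ≫ pr₁ U := Over.w t.hom.fst
    have w₂ : t.hom.snd.left ≫ b.hom ≫ pr₂ U = a.hom ≫ pr₂ U := Over.w t.hom.snd
    replace w₂ : t.hom.fst.left ≫ b.hom ≫ pr₂ U = a.hom ≫ pr₂ U :=
      (congrArg (· ≫ b.hom ≫ pr₂ U) e.symm).trans w₂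
    refine ⟨Over.homMk (V := b) t.hom.fst.left (Over.OverMorphism.ext (pullback.hom_ext ?_ ?_)),
      ObjectProperty.hom_ext _ (CategoricalPullback.hom_ext (Over.OverMorphism.ext rfl)
        (Over.OverMorphism.ext e.symm))⟩
    · exact (Category.assoc _ _ _).trans (congrArg CommaMorphism.left w₁)
    · exact (Category.assoc _ _ _).trans (congrArg CommaMorphism.left w₂)
  · exact Over.OverMorphism.ext (congrArg (fun s => s.hom.fst.left) h)
  · have hS : η.obj.snd.left = η.obj.fst.left := snd_proj η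
    let l : η.obj.fst.left ⟶ prod₂ U := Over.homMk (pullback.lift η.obj.fst.hom.left
      (eqToHom hS.symm ≫ η.obj.snd.hom).left ((Over.w η.obj.fst.hom).trans (Over.w _).symm))
      ((pullback.lift_fst_assoc _ _ _ _).trans (Over.w η.obj.fst.hom))
    have hl₁ : l ≫ pr₁ U = η.obj.fst.hom := Over.OverMorphism.ext (pullback.lift_fst _ _ _)
    have hl₂ : l ≫ pr₂ U = eqToHom hS.symm ≫ η.obj.snd.hom := Over.OverMorphism.ext (pullback.lift_snd _ _ _)
    let a : (Over.map (pr₁ U)).obj (Over.mk l) ≅ η.obj.fst :=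
      Over.isoMk (Iso.refl _) ((Category.id_comp _).trans hl₁.symm)
    let b : (Over.map (pr₂ U)).obj (Over.mk l) ≅ η.obj.snd := Over.isoMk (eqToIso hS.symm) hl₂.symm
    have ha : (FibCat.overCat U : AlgSt.Cat S).p.IsHomLift (𝟙 η.obj.fst.left) a.hom :=
      CategoryTheory.IsHomLift.map (FibCat.overCat U : AlgSt.Cat S).p a.hom
    have hb : (FibCat.overCat U : AlgSt.Cat S).p.IsHomLift (𝟙 η.obj.fst.left) b.hom :=
      isHomLift_id_of_map_eq (p := (FibCat.overCat U : AlgSt.Cat S).p) (S := η.obj.fst.left)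
        (a := (Over.map (pr₂ U)).obj (Over.mk l)) (b := η.obj.snd) (φ := b.hom) rfl hS rfl
    refine ⟨Over.mk l, fpIsoMk a b ?_, fp_isHomLift (F := F) (G := F) (𝟙 η.obj.fst.left) _ (h := ha)⟩
    have hη : (FibCat.selfOver (Over S)).p.IsHomLift (𝟙 η.obj.fst.left) η.obj.iso.hom := fp_iso_lift η
    have hi : (FibCat.selfOver (Over S)).p.IsHomLift (𝟙 η.obj.fst.left)
        ((pairEquiv x).obj (Over.mk l)).obj.iso.hom := fp_iso_lift ((pairEquiv x).obj (Over.mk l))
    exact self_hom_subsingleton (T := η.obj.fst.left)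
      (inferInstanceAs ((FibCat.selfOver (Over S)).p.IsHomLift (𝟙 η.obj.fst.left)
        (F.map a.hom ≫ η.obj.iso.hom)))
      (inferInstanceAs ((FibCat.selfOver (Over S)).p.IsHomLift (𝟙 η.obj.fst.left)
        (((pairEquiv x).obj (Over.mk l)).obj.iso.hom ≫ F.map b.hom)))

/-- A presentation of a stack whose diagonal is separated and locally quasi-finite. -/
theorem exists_presentation (h𝒳 : FibCat.IsFibGrpd 𝒳.p)
    (hΔ : AlgSt.RepByAlgSpWith AlgSp.IsSeparatedMor (FibCat.diag (FibCat.toSelf 𝒳)))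
    (hqf : AlgSt.IsQuasiDMOver 𝒳) (hx : AlgSt.RepByAlgSpWith (LocP @Smooth) x) :
    ∃ (R : Over S) (s t : R ⟶ U) (ε : BasedFunctor.comp (mapB s) x ≅ BasedFunctor.comp (mapB t) x)
      (hE : FibCat.IsEquivOver (FibCat.fpLift (mapB s) (mapB t) ε)),
      Smooth s.left ∧ Smooth t.left ∧ LocallyOfFiniteType (groupoid hE h𝒳).stabilizerToU ∧
        LocallyQuasiFinite (groupoid hE h𝒳).stabilizerToU := by
  let τ := FibCat.toSelf 𝒳
  let Q : MorphismProperty (Sp S) := lqf ⊓ IsSeparatedMor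
  have hQ : StableBC Q := stableBC_inf stableBC_locP stableBC_isSeparatedMor
  have hd : AlgSt.RepByAlgSpWith Q (FibCat.diag τ) := repByAlgSpWith_and stableBC_locP hqf hΔ
  have hw := repByAlgSpWith_weaken x x τ hd
  let w := weaken x x τ
  let E := pairEquiv x
  obtain ⟨F, e, he, hP⟩ := hw (prod₂ U) E
  let P₂ : AlgSp.Space S := ⟨_, IsAlgSpace.yon_obj (prod₂ U)⟩
  have hrep : AlgSp.Representable (AlgSt.spMapOfOver (BasedFunctor.comp e (FibCat.fpFst E w))) :=
    S10260.result (X := F) (Y := P₂)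
      (ObjectProperty.homMk (AlgSt.spMapOfOver (BasedFunctor.comp e (FibCat.fpFst E w)))) hP.1 hP.2
  obtain ⟨R, r, j, sq⟩ := hrep (𝟙 ((yon S).obj (prod₂ U)))
  haveI : IsIso j := sq.isIso_fst_of_isIso
  let G : FibCat.overCat R ⥤ᵇ FibCat.fp x x :=
    BasedFunctor.comp (AlgSt.ofOverCat R) (BasedFunctor.comp (AlgSt.ofSpMap j)
      (BasedFunctor.comp e (FibCat.fpSnd E w)))
  have hG : FibCat.IsEquivOver G :=
    isEquivOver_comp (isEquivOver_ofOverCat R) (isEquivOver_comp (isEquivOver_ofSpMap j)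
      (isEquivOver_comp he (fpSnd_isEquivOver (pairEquiv_isEquivOver x) w)))
  obtain ⟨s, ⟨is⟩⟩ := exists_mapB (BasedFunctor.comp G (FibCat.fpFst x x))
  obtain ⟨t, ⟨it⟩⟩ := exists_mapB (BasedFunctor.comp G (FibCat.fpSnd x x))
  let ε : BasedFunctor.comp (mapB s) x ≅ BasedFunctor.comp (mapB t) x :=
    whiskerRightIso is x ≪≫ whiskerLeftIso G (FibCat.fpIso x x) ≪≫ whiskerRightIso it.symm x
  let G' := FibCat.fpLift (mapB s) (mapB t) ε
  let η : G ≅ G' :=
    BasedNatIso.mkNatIso
      (NatIso.ofComponents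
        (fun a => fpIsoMk (x := G.obj a) (y := G'.obj a) (isoApp is a).symm (isoApp it a).symm (by
          show x.map (isoApp is a).inv ≫ (x.map (isoApp is a).hom ≫ (G.obj a).obj.iso.hom ≫ x.map (isoApp it a).inv) =
            (G.obj a).obj.iso.hom ≫ x.map (isoApp it a).inv
          rw [← Category.assoc, ← x.toFunctor.map_comp, Iso.inv_hom_id, x.toFunctor.map_id, Category.id_comp]))
        (fun {a b} φ => ObjectProperty.hom_ext _ (CategoricalPullback.hom_ext (natural is.symm φ) (natural it.symm φ))))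
      (fun a => fp_isHomLift (F := x) (G := x) (𝟙 _) _ (h := isoApp_lift is.symm rfl))
  have hE : FibCat.IsEquivOver G' := isEquivOver_of_iso η hG
  refine ⟨R, s, t, ε, hE, ?_, ?_, ?_⟩
  · have h := ((show RepOver (LocP @Smooth) (FibCat.fpFst x x) from hx U x).property_of_stableBC stableBC_locP
      (BasedFunctor.comp (AlgSt.toOverCat R) G') (isEquivOver_comp (isEquivOver_toOverCat R) hE)).2
    rw [show AlgSt.spMapOfOver (BasedFunctor.comp (BasedFunctor.comp (AlgSt.toOverCat R) G') (FibCat.fpFst x x)) =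
      (yon S).map s from (spMapOfOver_congr (toOverCatMapIso s)).trans (spMapOfOver_ofSpMap_toOverCat _)] at h
    exact locP_yon_map h
  · have h := ((show RepOver (LocP @Smooth) (FibCat.fpFst x x) from hx U x).property_of_stableBC stableBC_locP
      (BasedFunctor.comp (AlgSt.toOverCat R) (BasedFunctor.comp G' (fpSwap x x)))
      (isEquivOver_comp (isEquivOver_toOverCat R) (isEquivOver_comp hE (fpSwap_isEquivOver x x)))).2
    rw [show AlgSt.spMapOfOver (BasedFunctor.comp (BasedFunctor.comp (AlgSt.toOverCat R)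
        (BasedFunctor.comp G' (fpSwap x x))) (FibCat.fpFst x x)) =
      (yon S).map t from (spMapOfOver_congr (toOverCatMapIso t)).trans (spMapOfOver_ofSpMap_toOverCat _)] at h
    exact locP_yon_map h
  · let p : R ⟶ prod₂ U := Over.homMk (pullback.lift s.left t.left ((Over.w s).trans (Over.w t).symm))
      ((pullback.lift_fst_assoc _ _ _ _).trans (Over.w s))
    have hp₁ : p ≫ pr₁ U = s := Over.OverMorphism.ext (pullback.lift_fst _ _ _)
    have hp₂ : p ≫ pr₂ U = t := Over.OverMorphism.ext (pullback.lift_snd _ _ _)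
    let i : BasedFunctor.comp (mapB p) E ≅ BasedFunctor.comp G' w :=
      fpSelfIso
        (overIso _ _ fun a => by
          show 𝟙 a.left ≫ (a.hom ≫ s) = (a.hom ≫ p) ≫ pr₁ U
          rw [Category.id_comp, Category.assoc, hp₁])
        (overIso _ _ fun a => by
          show 𝟙 a.left ≫ (a.hom ≫ t) = (a.hom ≫ p) ≫ pr₂ U
          rw [Category.id_comp, Category.assoc, hp₂])
    let e' : FibCat.overCat R ⥤ᵇ FibCat.fp E w := FibCat.fpLift (mapB p) G' i
    have he' : FibCat.IsEquivOver e' :=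
      isEquivOver_of_comp_right (fpSnd_isEquivOver (pairEquiv_isEquivOver x) w)
        (isEquivOver_of_iso (Iso.refl G') hE)
    have h := ((show RepOver lqf (FibCat.fpFst E w) from ⟨F, e, he, hP.1⟩).property_of_stableBC stableBC_locP
      (BasedFunctor.comp (AlgSt.toOverCat R) e') (isEquivOver_comp (isEquivOver_toOverCat R) he')).2
    rw [show AlgSt.spMapOfOver (BasedFunctor.comp (BasedFunctor.comp (AlgSt.toOverCat R) e') (FibCat.fpFst E w)) =
      (yon S).map p from (spMapOfOver_congr (toOverCatMapIso p)).trans (spMapOfOver_ofSpMap_toOverCat _)] at h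
    obtain ⟨h₁, h₂⟩ : LocallyQuasiFinite p.left ∧ LocallyOfFiniteType p.left := locP_yon_map h
    have hj' : pullback.lift t.left s.left ((Over.w t).trans (Over.w s).symm) =
        p.left ≫ (pullbackSymmetry U.hom U.hom).hom := by
      apply pullback.hom_ext <;> simp [p]
    have hj : (groupoid hE h𝒳).j = p.left ≫ (pullbackSymmetry U.hom U.hom).hom := hj'
    haveI : LocallyQuasiFinite (groupoid hE h𝒳).j := hj ▸ inferInstanceAs (LocallyQuasiFinite (p.left ≫ _))
    haveI : LocallyOfFiniteType (groupoid hE h𝒳).j := hj ▸ inferInstanceAs (LocallyOfFiniteType (p.left ≫ _))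
    exact ⟨MorphismProperty.pullback_snd (P := @LocallyOfFiniteType) _ _ inferInstance,
      MorphismProperty.pullback_snd (P := @LocallyQuasiFinite) _ _ inferInstance⟩

end Groth.Agent.QDMCover
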