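import Groth.Agent.AlgSpDec.SliceCover
import Mathlib.AlgebraicGeometry.Morphisms.Finite

/-!
# A union of slices through all finite type points
-/

set_option autoImplicit false
set_option linter.style.haveILetI false
set_option backward.isDefEq.respectTransparency false
set_option backward.isDefEq.respectTransparency.types false

universe u

open CategoryTheory Limits Opposite AlgebraicGeometry AlgSp Groth.Agent.AlgSpLib Groth.Agent.AlgSpPts
open Groth.Agent.AlgSpDec Groth.Agent.AlgSpDec.Slice

namespace Groth.Agent.QDMCover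

/-- A nonempty closed subset contains a finite type point. -/
theorem exists_ftPoint_mem {X : Scheme.{u}} {Z : Set X} (hZ : IsClosed Z) {x : X} (hx : x ∈ Z) :
    ∃ y ∈ Z, LocallyOfFiniteType (X.fromSpecResidueField y) := by
  obtain ⟨V, hV, hxV, -⟩ := exists_isAffineOpen_mem_and_subset (U := (⊤ : X.Opens)) (x := x) trivial
  haveI : IsAffine ↑V := hV
  haveI : CompactSpace V := inferInstanceAs (CompactSpace (V : Scheme.{u}).carrier)
  obtain ⟨y, hy, hyc⟩ := IsClosed.exists_closed_singleton (X := ↥(V : Scheme.{u}))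
    (hZ.preimage continuous_subtype_val) ⟨⟨x, hxV⟩, hx⟩
  refine ⟨y.1, hy, ?_⟩
  haveI := isClosed_singleton_iff_isClosedImmersion.1 hyc
  have h : Spec.map (V.ι.residueFieldMap y) ≫ X.fromSpecResidueField (V.ι y) =
      (V : Scheme.{u}).fromSpecResidueField y ≫ V.ι :=
    V.ι.SpecMap_residueFieldMap_fromSpecResidueField y
  have h2 : LocallyOfFiniteType (Spec.map (V.ι.residueFieldMap y) ≫ X.fromSpecResidueField (V.ι y)) := by
    rw [h]; infer_instance
  exact (MorphismProperty.cancel_left_of_respectsIso @LocallyOfFiniteType _ _).1 h2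

variable {S : Scheme.{u}} {U R : Over S}

/-- Slices through all finite type points sum up to a surjective flat quasi-finite family. -/
theorem exists_slices (s t : R ⟶ U) (e : U.left ⟶ R.left) (hes : e ≫ s.left = 𝟙 _) (het : e ≫ t.left = 𝟙 _)
    (h : ∀ u : U.left, LocallyOfFiniteType (U.left.fromSpecResidueField u) →
      ∃ (U' : Scheme.{u}) (g : U' ⟶ U.left) (u' : U'), g u' = u ∧ Flat (pullback.snd g t.left ≫ s.left) ∧
        LocallyOfFinitePresentation (pullback.snd g t.left ≫ s.left) ∧
        LocallyQuasiFinite (pullback.snd g t.left ≫ s.left)) :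
    ∃ (W : Over S) (g : W ⟶ U), Flat (pullback.snd g t ≫ s).left ∧
      LocallyOfFinitePresentation (pullback.snd g t ≫ s).left ∧
      LocallyQuasiFinite (pullback.snd g t ≫ s).left ∧ Surjective (pullback.snd g t ≫ s).left := by
  choose Z₀ g₀ u' hu hflat hlfp hqf using h
  let ι := {u : U.left // LocallyOfFiniteType (U.left.fromSpecResidueField u)}
  let Z : ι → Over S := fun i => Over.mk (g₀ i.1 i.2 ≫ U.hom)
  let g : ∀ i, Z i ⟶ U := fun i => Over.homMk (g₀ i.1 i.2)
  let g' : sigmaOver Z ⟶ U := Over.homMk (Sigma.desc fun i => (g i).left : (∐ fun i => (Z i).left) ⟶ U.left)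
    (Sigma.hom_ext _ _ fun i => by
      show Sigma.ι (fun i => (Z i).left) i ≫ Sigma.desc (fun i => (g i).left) ≫ U.hom =
        Sigma.ι (fun i => (Z i).left) i ≫ Sigma.desc fun i => (Z i).hom
      rw [Sigma.ι_desc_assoc, Sigma.ι_desc, Over.w])
  have hι : ∀ i, sigmaι Z i ≫ g' = g i := fun i => Over.OverMorphism.ext (Sigma.ι_desc _ _)
  have key : ∀ (P : MorphismProperty Scheme.{u}) [P.RespectsIso] (i : ι),
      P (pullback.snd (g₀ i.1 i.2) t.left ≫ s.left) → P (pullback.snd (g i) t ≫ s).left := by
    intro P _ i hP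
    have sq := (IsPullback.of_hasPullback (g i) t).map (Over.forget S)
    have he : (pullback.snd (g i) t ≫ s).left = sq.isoPullback.hom ≫ pullback.snd (g₀ i.1 i.2) t.left ≫ s.left := by
      rw [Over.comp_left]
      exact (congrArg (· ≫ s.left) sq.isoPullback_hom_snd.symm).trans (Category.assoc _ _ _)
    rw [he, MorphismProperty.cancel_left_of_respectsIso P]
    exact hP
  have hf : Flat (pullback.snd g' t ≫ s).left :=
    hmap_sigma @Flat g' g hι fun i => key @Flat i (hflat i.1 i.2)
  have hl : LocallyOfFinitePresentation (pullback.snd g' t ≫ s).left :=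
    hmap_sigma @LocallyOfFinitePresentation g' g hι fun i => key @LocallyOfFinitePresentation i (hlfp i.1 i.2)
  have hq : LocallyQuasiFinite (pullback.snd g' t ≫ s).left :=
    hmap_sigma @LocallyQuasiFinite g' g hι fun i => key @LocallyQuasiFinite i (hqf i.1 i.2)
  refine ⟨sigmaOver Z, g', hf, hl, hq, ⟨fun x => ?_⟩⟩
  let h := (pullback.snd g' t ≫ s).left
  by_contra hx
  obtain ⟨y, hy, hft⟩ := exists_ftPoint_mem h.isOpenMap.isOpen_range.isClosed_compl (show x ∈ (Set.range h)ᶜ from hx)
  let i : ι := ⟨y, hft⟩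
  let eO : U ⟶ R := Over.homMk e (by rw [← Over.w t, reassoc_of% het])
  let σ : Z i ⟶ pullback g' t := pullback.lift (sigmaι Z i) (g i ≫ eO) (by
    rw [hι, Category.assoc, show eO ≫ t = 𝟙 U from Over.OverMorphism.ext het, Category.comp_id])
  refine hy ⟨σ.left (u' i.1 i.2), ?_⟩
  show (σ ≫ pullback.snd g' t ≫ s).left (u' i.1 i.2) = y
  rw [pullback.lift_snd_assoc, Category.assoc, show eO ≫ s = 𝟙 U from Over.OverMorphism.ext hes, Category.comp_id]
  exact hu i.1 i.2

end Groth.Agent.QDMCover
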