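import Groth.Prelude.Def_Grpd
import Groth.Agent.FibBase.FpMaps
import Groth.Agent.FibBase.Slices
import Groth.Agent.AlgStLib.Yoneda

/-!
# The groupoid scheme of a chart with representable self product
-/

set_option autoImplicit false
set_option linter.style.haveILetI false
set_option backward.isDefEq.respectTransparency false
set_option backward.isDefEq.respectTransparency.types false

universe u

open CategoryTheory CategoryTheory.Functor CategoryTheory.Limits AlgebraicGeometry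
open Groth.Agent.FibBase

namespace Groth.Agent.QDMCover

variable {S : Scheme.{u}} {𝒳 : AlgSt.Cat S} {U : Over S} (x : FibCat.overCat U ⥤ᵇ 𝒳)

/-- The value of a chart at a point. -/
abbrev at' {T : Over S} (a : T ⟶ U) : 𝒳.obj := x.obj (Over.mk a)

/-- The morphism of values of a chart over a change of point. -/
def pull {T' T : Over S} (h : T' ⟶ T) {a' : T' ⟶ U} {a : T ⟶ U} (w : h ≫ a = a') : at' x a' ⟶ at' x a :=
  x.map (Over.homMk h w)

theorem p_at {T : Over S} (a : T ⟶ U) : 𝒳.p.obj (at' x a) = T := x.w_obj (Over.mk a)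

theorem pull_lift {T' T : Over S} (h : T' ⟶ T) {a' : T' ⟶ U} {a : T ⟶ U} (w : h ≫ a = a') :
    𝒳.p.IsHomLift h (pull x h w) :=
  (x.isHomLift_iff h _).2 (CategoryTheory.IsHomLift.map (FibCat.overCat U : AlgSt.Cat S).p (Over.homMk h w : Over.mk a' ⟶ Over.mk a))

theorem eqToHom_pull {T' T : Over S} (h : T' ⟶ T) {a'' a' : T' ⟶ U} {a : T ⟶ U} (e : a'' = a')
    (w : h ≫ a = a') : eqToHom (congrArg (at' x) e) ≫ pull x h w = pull x h (w.trans e.symm) := by
  subst e; simp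

theorem pull_eqToHom {T' T : Over S} (h : T' ⟶ T) {a' : T' ⟶ U} {a a₂ : T ⟶ U} (e : a = a₂)
    (w : h ≫ a = a') : pull x h w ≫ eqToHom (congrArg (at' x) e) = pull x h (e ▸ w : h ≫ a₂ = a') := by
  subst e; simp

variable {R : Over S} (s t : R ⟶ U) (ε : BasedFunctor.comp (mapB s) x ≅ BasedFunctor.comp (mapB t) x)

/-- The arrow of a point of the relation, between given values of the chart. -/
def val {T : Over S} (r : T ⟶ R) (a b : T ⟶ U) (ha : r ≫ s = a) (hb : r ≫ t = b) : at' x a ⟶ at' x b :=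
  eqToHom (congrArg (at' x) ha.symm) ≫ (isoApp ε (Over.mk r)).hom ≫ eqToHom (congrArg (at' x) hb)

theorem val_lift {T : Over S} (r : T ⟶ R) (a b : T ⟶ U) (ha : r ≫ s = a) (hb : r ≫ t = b) :
    𝒳.p.IsHomLift (𝟙 T) (val x s t ε r a b ha hb) := by
  subst ha hb
  rw [val, eqToHom_refl, eqToHom_refl, Category.id_comp, Category.comp_id]
  exact isoApp_lift ε rfl

/-- The arrows are natural in the point. -/
theorem val_natural {T' T : Over S} (h : T' ⟶ T) (r : T ⟶ R) (a b : T ⟶ U) (ha : r ≫ s = a) (hb : r ≫ t = b)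
    (r' : T' ⟶ R) (a' b' : T' ⟶ U) (ha' : r' ≫ s = a') (hb' : r' ≫ t = b') (hr : h ≫ r = r')
    (wa : h ≫ a = a') (wb : h ≫ b = b') :
    val x s t ε r' a' b' ha' hb' ≫ pull x h wb = pull x h wa ≫ val x s t ε r a b ha hb := by
  subst ha hb ha' hb' hr
  simp only [val, eqToHom_refl, Category.id_comp, Category.comp_id]
  have h1 := natural ε (Over.homMk h rfl : Over.mk (h ≫ r) ⟶ Over.mk r)
  exact h1.symm

/-- Two vertical morphisms agreeing after a pullback morphism agree. -/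
theorem eq_of_comp_pull (h𝒳 : FibCat.IsFibGrpd 𝒳.p) {T' T : Over S} (h : T' ⟶ T) {a' b' : T' ⟶ U} {b : T ⟶ U}
    (w : h ≫ b = b') (φ φ' : at' x a' ⟶ at' x b') (hφ : 𝒳.p.IsHomLift (𝟙 T') φ)
    (hφ' : 𝒳.p.IsHomLift (𝟙 T') φ') (he : φ ≫ pull x h w = φ' ≫ pull x h w) : φ = φ' := by
  haveI := h𝒳
  haveI := pull_lift x h w
  haveI := isSC (p := 𝒳.p) h (pull x h w)
  exact IsStronglyCartesian.ext 𝒳.p h (pull x h w) (𝟙 T') he

variable (hE : FibCat.IsEquivOver (FibCat.fpLift (mapB s) (mapB t) ε))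

include hE in
/-- A point of the relation is determined by its arrow. -/
theorem val_ext {T : Over S} {r r' : T ⟶ R} {a b : T ⟶ U} (ha : r ≫ s = a) (hb : r ≫ t = b)
    (ha' : r' ≫ s = a) (hb' : r' ≫ t = b) (h : val x s t ε r a b ha hb = val x s t ε r' a b ha' hb') :
    r = r' := by
  haveI := full_of_isEquivOver hE
  let G := FibCat.fpLift (mapB s) (mapB t) ε
  let φ₁ : (Over.map s).obj (Over.mk r) ⟶ (Over.map s).obj (Over.mk r') :=
    Over.homMk (𝟙 T) ((Category.id_comp _).trans (ha'.trans ha.symm))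
  let φ₂ : (Over.map t).obj (Over.mk r) ⟶ (Over.map t).obj (Over.mk r') :=
    Over.homMk (𝟙 T) ((Category.id_comp _).trans (hb'.trans hb.symm))
  have he₁ : ∀ {c c' : T ⟶ U} (e : c' = c) (w : 𝟙 T ≫ c' = c),
      x.map (Over.homMk (𝟙 T) w : Over.mk c ⟶ Over.mk c') = eqToHom (congrArg (at' x) e.symm) := by
    intro c c' e w
    subst e
    exact (congrArg x.map (Over.OverMorphism.ext rfl)).trans (x.toFunctor.map_id _)
  have hw : x.map φ₁ ≫ (isoApp ε (Over.mk r')).hom = (isoApp ε (Over.mk r)).hom ≫ x.map φ₂ := by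
    rw [show x.map φ₁ = _ from he₁ (ha'.trans ha.symm) ((Category.id_comp _).trans (ha'.trans ha.symm)),
      show x.map φ₂ = _ from he₁ (hb'.trans hb.symm) ((Category.id_comp _).trans (hb'.trans hb.symm))]
    subst ha hb
    simp only [val, eqToHom_refl, Category.id_comp, Category.comp_id] at h
    rw [h]
    simp
  let m : G.obj (Over.mk r) ⟶ G.obj (Over.mk r') := ObjectProperty.homMk ⟨φ₁, φ₂, hw⟩
  obtain ⟨ψ, hψ⟩ := G.toFunctor.map_surjective m
  have h1 : ψ.left = 𝟙 T := congrArg (fun q => q.hom.fst.left) hψ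
  have h2 : ψ.left ≫ r' = r := Over.w ψ
  exact h2.symm.trans ((congrArg (· ≫ r') h1).trans (Category.id_comp r'))

include hE in
/-- Every vertical isomorphism of values of the chart comes from a point of the relation. -/
theorem exists_val {T : Over S} (a b : T ⟶ U) (φ : at' x a ≅ at' x b) (hφ : 𝒳.p.IsHomLift (𝟙 T) φ.hom) :
    ∃ (r : T ⟶ R) (ha : r ≫ s = a) (hb : r ≫ t = b), val x s t ε r a b ha hb = φ.hom := by
  let η : (FibCat.fp x x).obj := ⟨⟨Over.mk a, Over.mk b, φ⟩, hφ⟩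
  obtain ⟨ξ, e, he⟩ := exists_iso_over_of_isEquivOver hE η (S := T) rfl
  have h1 : ξ.left = T := IsHomLift.domain_eq (FibCat.fp x x).p (𝟙 T) e.hom
  obtain ⟨r, rfl⟩ : ∃ r : T ⟶ R, ξ = Over.mk r := by
    subst h1
    exact ⟨ξ.hom, rfl⟩
  have hl : e.hom.hom.fst.left = 𝟙 T := by
    have h := map_eq_of_isHomLift_id (p := (FibCat.fp x x).p) he
    exact h.trans (eqToHom_refl _ _)
  have hl' : e.hom.hom.snd.left = 𝟙 T := by
    have h := CategoryTheory.IsHomLift.fac' (FibCat.overCat U : AlgSt.Cat S).p ((FibCat.fp x x).p.map e.hom)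
      e.hom.hom.snd
    refine h.trans ?_
    show eqToHom _ ≫ e.hom.hom.fst.left ≫ eqToHom _ = 𝟙 T
    rw [hl]
    simp
  have w1 : e.hom.hom.fst.left ≫ a = r ≫ s := Over.w e.hom.hom.fst
  have w2 : e.hom.hom.snd.left ≫ b = r ≫ t := Over.w e.hom.hom.snd
  replace w1 : a = r ≫ s := (Category.id_comp a).symm.trans ((congrArg (· ≫ a) hl).symm.trans w1)
  replace w2 : b = r ≫ t := (Category.id_comp b).symm.trans ((congrArg (· ≫ b) hl').symm.trans w2)
  refine ⟨r, w1.symm, w2.symm, ?_⟩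
  subst w1 w2
  have key : ∀ {c : T ⟶ U} (m : (Over.mk c : Over U) ⟶ Over.mk c), m.left = 𝟙 T → x.map m = 𝟙 (at' x c) :=
    fun m hm => (congrArg x.map (Over.OverMorphism.ext hm : m = 𝟙 _)).trans (x.toFunctor.map_id _)
  have hw : x.map e.hom.hom.fst ≫ φ.hom = (isoApp ε (Over.mk r)).hom ≫ x.map e.hom.hom.snd := e.hom.hom.w
  rw [show x.map e.hom.hom.fst = _ from key e.hom.hom.fst hl,
    show x.map e.hom.hom.snd = _ from key e.hom.hom.snd hl'] at hw
  simp only [val, eqToHom_refl, Category.id_comp, Category.comp_id]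
  exact (Category.comp_id _).symm.trans (hw.symm.trans (Category.id_comp _))

include hE in
/-- Composition of arrows, pulled back. -/
theorem exists_comp (h𝒳 : FibCat.IsFibGrpd 𝒳.p) :
    ∃ c : pullback s.left t.left ⟶ R.left, ∀ {T : Over S} (α β : T ⟶ R) (h : α ≫ s = β ≫ t),
      ∃ m : T ⟶ R, m.left = pullback.lift α.left β.left (congrArg CommaMorphism.left h) ≫ c ∧
        ∃ (ha : m ≫ s = β ≫ s) (hb : m ≫ t = α ≫ t), val x s t ε m (β ≫ s) (α ≫ t) ha hb =
          val x s t ε β (β ≫ s) (α ≫ s) rfl h.symm ≫ val x s t ε α (α ≫ s) (α ≫ t) rfl rfl := by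
  haveI := h𝒳
  let T₀ : Over S := Over.mk (pullback.fst s.left t.left ≫ R.hom)
  let α₀ : T₀ ⟶ R := Over.homMk (pullback.fst s.left t.left)
  let β₀ : T₀ ⟶ R := Over.homMk (pullback.snd s.left t.left) (by
    show pullback.snd s.left t.left ≫ R.hom = pullback.fst s.left t.left ≫ R.hom
    calc _ = pullback.snd s.left t.left ≫ t.left ≫ U.hom := by rw [Over.w t]
      _ = pullback.fst s.left t.left ≫ s.left ≫ U.hom := (pullback.condition_assoc _).symm
      _ = _ := by rw [Over.w s])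
  have h₀ : α₀ ≫ s = β₀ ≫ t := Over.OverMorphism.ext pullback.condition
  haveI := val_lift x s t ε β₀ (β₀ ≫ s) (α₀ ≫ s) rfl h₀.symm
  haveI := val_lift x s t ε α₀ (α₀ ≫ s) (α₀ ≫ t) rfl rfl
  let φ := val x s t ε β₀ (β₀ ≫ s) (α₀ ≫ s) rfl h₀.symm ≫ val x s t ε α₀ (α₀ ≫ s) (α₀ ≫ t) rfl rfl
  have hφ : 𝒳.p.IsHomLift (𝟙 T₀) φ := inferInstance
  haveI := isIso_of_lift (p := 𝒳.p) (hp := h𝒳) (𝟙 T₀) φ
  obtain ⟨c, hca, hcb, hc⟩ := exists_val x s t ε hE _ _ (asIso φ) hφ
  refine ⟨c.left, fun {T} α β h => ?_⟩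
  let l : T ⟶ T₀ := Over.homMk (pullback.lift α.left β.left (congrArg CommaMorphism.left h)) (by
    show pullback.lift α.left β.left _ ≫ pullback.fst s.left t.left ≫ R.hom = T.hom
    rw [pullback.lift_fst_assoc]
    exact Over.w α)
  have hlα : l ≫ α₀ = α := Over.OverMorphism.ext (pullback.lift_fst _ _ _)
  have hlβ : l ≫ β₀ = β := Over.OverMorphism.ext (pullback.lift_snd _ _ _)
  have ha : (l ≫ c) ≫ s = β ≫ s := by rw [Category.assoc, hca, ← Category.assoc, hlβ]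
  have hb : (l ≫ c) ≫ t = α ≫ t := by rw [Category.assoc, hcb, ← Category.assoc, hlα]
  refine ⟨l ≫ c, rfl, ha, hb, ?_⟩
  haveI := val_lift x s t ε β (β ≫ s) (α ≫ s) rfl h.symm
  haveI := val_lift x s t ε α (α ≫ s) (α ≫ t) rfl rfl
  refine eq_of_comp_pull x h𝒳 l (b := α₀ ≫ t) (by rw [← Category.assoc, hlα]) _ _ (val_lift x s t ε _ _ _ ha hb)
    inferInstance ?_
  have wa : l ≫ α₀ ≫ s = α ≫ s := by rw [← Category.assoc, hlα]
  have wb : l ≫ α₀ ≫ t = α ≫ t := by rw [← Category.assoc, hlα]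
  have wc : l ≫ β₀ ≫ s = β ≫ s := by rw [← Category.assoc, hlβ]
  have n₀ := val_natural x s t ε l c (β₀ ≫ s) (α₀ ≫ t) hca hcb (l ≫ c) (β ≫ s) (α ≫ t) ha hb rfl wc wb
  have n₁ := val_natural x s t ε l α₀ (α₀ ≫ s) (α₀ ≫ t) rfl rfl α (α ≫ s) (α ≫ t) rfl rfl hlα wa wb
  have n₂ := val_natural x s t ε l β₀ (β₀ ≫ s) (α₀ ≫ s) rfl h₀.symm β (β ≫ s) (α ≫ s) rfl h.symm hlβ wc wa
  refine n₀.trans ?_
  rw [hc, Category.assoc, n₁, ← Category.assoc (val x s t ε β (β ≫ s) (α ≫ s) rfl h.symm), n₂, Category.assoc]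
  rfl

end Groth.Agent.QDMCover
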